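import Groth.Agent.S7489
import Groth.Agent.S7614
import Groth.Agent.S9203
import Groth.Agent.Lib.FinAffine12.Basic
import Groth.Prelude.Def_Red
import Mathlib.AlgebraicGeometry.AlgClosed.Basic
import Mathlib.AlgebraicGeometry.Morphisms.QuasiFinite
import Mathlib.AlgebraicGeometry.Morphisms.Integral
import Mathlib.AlgebraicGeometry.QuasiAffine

/-!
# Finite sets of points of group schemes of finite type lie in affine opens
-/

set_option autoImplicit false
set_option linter.style.haveILetI false
set_option backward.isDefEq.respectTransparency.types false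

universe u

open CategoryTheory CategoryTheory.Limits AlgebraicGeometry TopologicalSpace

noncomputable section

namespace Groth.Agent.GrpQP

/-- Over an algebraically closed field, finitely many closed points lie in an affine open. -/
theorem exists_affine_algClosed (K : Type u) [Field K] [IsAlgClosed K]
    (G : Over (Spec (CommRingCat.of K))) [GrpObj G] [LocallyOfFiniteType G.hom]
    (P : Set G.left) (hP : P.Finite) (hc : ∀ x ∈ P, IsClosed ({x} : Set G.left)) :
    ∃ U : G.left.Opens, IsAffineOpen U ∧ P ⊆ U := by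
  haveI : JacobsonSpace G.left := LocallyOfFiniteType.jacobsonSpace G.hom
  haveI : Finite P := hP.to_subtype
  obtain ⟨n, ⟨en⟩⟩ := Finite.exists_equiv_fin P
  let pts : P → (Spec (CommRingCat.of K) ⟶ G.left) := fun i => pointOfClosedPoint G.hom i.1 (hc _ i.2)
  let sig : (∐ fun _ : P => Spec (CommRingCat.of K)) ⟶ Spec (CommRingCat.of (P → K)) :=
    sigmaSpec (fun _ : P => CommRingCat.of K)
  haveI : IsIso sig := inferInstanceAs (IsIso (sigmaSpec (fun _ : P => CommRingCat.of K)))
  let d : (∐ fun _ : P => Spec (CommRingCat.of K)) ⟶ G.left := Limits.Sigma.desc pts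
  let ea : (P → K) ≃ₐ[K] (Fin n → K) :=
    { toFun := fun v i => v (en.symm i)
      invFun := fun v x => v (en x)
      left_inv := fun v => funext fun x => congrArg v (en.symm_apply_apply x)
      right_inv := fun v => funext fun i => congrArg v (en.apply_symm_apply i)
      map_mul' := fun _ _ => rfl
      map_add' := fun _ _ => rfl
      commutes' := fun _ => rfl }
  obtain ⟨U, hU, hUP⟩ := Groth.Agent.S7489.result K G
    (fun g hg => ⟨pointOfClosedPoint G.hom g hg, pointOfClosedPoint_comp _ _ _, pointOfClosedPoint_apply _ _ _ _⟩)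
    (P → K) (fun s => ⟨⊤, n, fun _ _ => trivial, ⟨Subalgebra.topEquiv.trans ea⟩⟩) (inv sig ≫ d) (by
      rw [Category.assoc, IsIso.inv_comp_eq]
      refine Limits.Sigma.hom_ext _ _ fun i => ?_
      simp only [d, sig, ι_sigmaSpec_assoc, ← Spec.map_comp, Limits.Sigma.ι_desc_assoc, pts,
        pointOfClosedPoint_comp]
      rw [← Spec.map_id]
      rfl)
  refine ⟨U, hU, ?_⟩
  intro x hx
  refine hUP ⟨sig ((Limits.Sigma.ι (fun _ : P => Spec (CommRingCat.of K)) ⟨x, hx⟩) (IsLocalRing.closedPoint K)), ?_⟩
  rw [← Scheme.Hom.comp_apply, IsIso.hom_inv_id_assoc, ← Scheme.Hom.comp_apply, Limits.Sigma.ι_desc]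
  exact pointOfClosedPoint_apply _ _ _ _

/-- Finitely many points of a group scheme of finite type over a field lie in an affine open. -/
theorem exists_affine_field (k : Type u) [Field k] (G : Over (Spec (CommRingCat.of k))) [GrpObj G]
    [LocallyOfFiniteType G.hom] [QuasiCompact G.hom] (P : Set G.left) (hP : P.Finite) :
    ∃ U : G.left.Opens, IsAffineOpen U ∧ P ⊆ U := by
  classical
  haveI : JacobsonSpace G.left := LocallyOfFiniteType.jacobsonSpace G.hom
  haveI : CompactSpace G.left := QuasiCompact.compactSpace_of_compactSpace G.hom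
  -- replace every point by a closed specialization
  have hspec : ∀ x : G.left, ∃ y, IsClosed ({y} : Set G.left) ∧ x ⤳ y := fun x => by
    obtain ⟨y, hy, hyc⟩ := nonempty_inter_closedPoints (Z := closure ({x} : Set G.left))
      ⟨x, subset_closure rfl⟩ isClosed_closure.isLocallyClosed
    exact ⟨y, hyc, specializes_iff_mem_closure.2 hy⟩
  choose sp hspc hsp using hspec
  suffices h : ∃ U : G.left.Opens, IsAffineOpen U ∧ sp '' P ⊆ U by
    obtain ⟨U, hU, hPU⟩ := h
    exact ⟨U, hU, fun x hx => (hsp x).mem_open U.2 (hPU ⟨x, hx, rfl⟩)⟩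
  let K := AlgebraicClosure k
  let φ := Spec.map (CommRingCat.ofHom (algebraMap k K))
  haveI : IsIntegralHom φ := IsIntegralHom.SpecMap_iff.2 fun a => Algebra.IsIntegral.isIntegral (R := k) a
  let GK := Red.bc φ G
  haveI : GrpObj GK := Red.grpObj_bc φ G
  let π : GK.left ⟶ G.left := pullback.fst G.hom φ
  haveI : IsIntegralHom π := inferInstanceAs (IsIntegralHom (pullback.fst G.hom φ))
  haveI : LocallyOfFiniteType GK.hom := inferInstanceAs (LocallyOfFiniteType (pullback.snd G.hom φ))
  haveI : QuasiCompact GK.hom := inferInstanceAs (QuasiCompact (pullback.snd G.hom φ))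
  -- closed fibres are finite
  have hfin : ∀ x : G.left, IsClosed ({x} : Set G.left) → (π ⁻¹' {x}).Finite := by
    intro x hx
    let i := G.left.fromSpecResidueField x
    haveI : IsClosedImmersion i := isClosed_singleton_iff_isClosedImmersion.1 hx
    haveI : IsFinite (i ≫ G.hom) := by
      rw [isFinite_iff_locallyOfFiniteType_of_jacobsonSpace]
      infer_instance
    haveI hq : IsFinite (pullback.fst π i ≫ pullback.snd G.hom φ) :=
      MorphismProperty.of_isPullback (P := @IsFinite)
        ((IsPullback.of_hasPullback π i).flip.paste_vert (IsPullback.of_hasPullback G.hom φ))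
        ‹IsFinite (i ≫ G.hom)›
    have hQ : (Set.univ : Set ↥(pullback π i)).Finite := by
      have := IsFinite.finite_preimage_singleton (pullback.fst π i ≫ pullback.snd G.hom φ)
        (IsLocalRing.closedPoint K)
      refine this.subset fun q _ => ?_
      haveI : Subsingleton ↥(Spec (CommRingCat.of K)) := inferInstanceAs (Subsingleton (PrimeSpectrum K))
      exact Subsingleton.elim _ _
    refine (hQ.image (pullback.fst π i)).subset fun y hy => ?_
    rw [Set.image_univ, Scheme.Pullback.range_fst, Set.mem_preimage, Scheme.range_fromSpecResidueField]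
    exact hy
  let P' : Set GK.left := π ⁻¹' (sp '' P)
  have hP' : P'.Finite := by
    refine ((hP.image sp).biUnion fun x hx => hfin x (by obtain ⟨y, -, rfl⟩ := hx; exact hspc y)).subset ?_
    intro y hy
    exact Set.mem_biUnion hy rfl
  have hP'c : ∀ y ∈ P', IsClosed ({y} : Set GK.left) := by
    intro y hy
    obtain ⟨z, -, hz⟩ := hy
    have hS : IsClosed (π ⁻¹' {π y}) := IsClosed.preimage π.continuous (hz ▸ hspc z)
    have hSf := hfin (π y) (hz ▸ hspc z)
    haveI : JacobsonSpace GK.left := LocallyOfFiniteType.jacobsonSpace GK.hom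
    by_contra hcon
    let Z₀ : Set GK.left := closure ({y} : Set GK.left) ∩ closedPoints GK.left
    have hsub : Z₀ ⊆ π ⁻¹' {π y} :=
      Set.inter_subset_left.trans (hS.closure_subset_iff.2 (Set.singleton_subset_iff.2 rfl))
    have hZ₀ : IsClosed Z₀ := by
      rw [← Set.biUnion_of_singleton Z₀]
      exact (hSf.subset hsub).isClosed_biUnion fun v hv => hv.2
    obtain ⟨v, ⟨hv, hv'⟩, hvc⟩ := nonempty_inter_closedPoints (Z := closure ({y} : Set GK.left) ∩ Z₀ᶜ)
      ⟨y, subset_closure rfl, fun h => hcon h.2⟩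
      (isClosed_closure.isLocallyClosed.inter hZ₀.isOpen_compl.isLocallyClosed)
    exact hv' ⟨hv, hvc⟩
  obtain ⟨U, hU, hPU⟩ := exists_affine_algClosed K GK P' hP' hP'c
  -- descend
  let V : G.left.Opens := ⟨(π '' (U : Set GK.left)ᶜ)ᶜ, (π.isClosedMap _ U.2.isClosed_compl).isOpen_compl⟩
  have hPV : sp '' P ⊆ V := by
    rintro x hx ⟨y, hy, rfl⟩
    exact hy (hPU hx)
  have hVU : π ⁻¹ᵁ V ≤ U := fun y hy => by
    by_contra h
    exact hy ⟨y, h, rfl⟩
  haveI : IsLocallyNoetherian GK.left := LocallyOfFiniteType.isLocallyNoetherian GK.hom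
  haveI : CompactSpace GK.left := QuasiCompact.compactSpace_of_compactSpace GK.hom
  haveI : IsNoetherian GK.left := {}
  haveI : NoetherianSpace GK.left := inferInstance
  haveI : CompactSpace (π ⁻¹ᵁ V).toScheme := isCompact_iff_compactSpace.1 (NoetherianSpace.isCompact _)
  haveI : IsAffine U.toScheme := hU
  haveI : (π ⁻¹ᵁ V).toScheme.IsQuasiAffine :=
    Scheme.IsQuasiAffine.of_isImmersion (GK.left.homOfLE hVU)
  letI : V.toScheme.Over (Spec (CommRingCat.of k)) := ⟨V.ι ≫ G.hom⟩
  have hpb : IsPullback (π ∣_ V) ((π ⁻¹ᵁ V).ι ≫ pullback.snd G.hom φ) (V.ι ≫ G.hom) φ :=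
    (isPullback_morphismRestrict π V).paste_vert (IsPullback.of_hasPullback G.hom φ)
  haveI : (Curv2.bc k V.toScheme K).IsQuasiAffine := QA11.isQuasiAffine_of_iso hpb.isoPullback.inv
  haveI : V.toScheme.IsQuasiAffine := Groth.Agent.S7614.result k V.toScheme K
  obtain ⟨W, hW, hPW⟩ := FinAffine12.exists_affineOpen_of_finite V.toScheme.toSpecΓ (V.ι ⁻¹' (sp '' P))
    ((hP.image sp).preimage V.ι.injective.injOn)
  refine ⟨V.ι ''ᵁ W, hW.image_of_isOpenImmersion V.ι, fun x hx => ?_⟩
  exact ⟨⟨x, hPV hx⟩, hPW hx, rfl⟩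

/-- Finitely many points of a group scheme of finite type over an Artinian base lie in an affine open. -/
theorem exists_affine_artinian {A : Type u} [CommRing A] [IsArtinianRing A]
    (G : Over (Spec (CommRingCat.of A))) [GrpObj G] [LocallyOfFiniteType G.hom] [QuasiCompact G.hom]
    (P : Set G.left) (hP : P.Finite) :
    ∃ U : G.left.Opens, IsAffineOpen U ∧ P ⊆ U := by
  classical
  let B := Spec (CommRingCat.of A)
  haveI : DiscreteTopology B := inferInstanceAs (DiscreteTopology (PrimeSpectrum A))
  haveI : Finite B := inferInstanceAs (Finite (PrimeSpectrum A))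
  have hloc : ∀ s : B, ∃ U : G.left.Opens, IsAffineOpen U ∧ (∀ x ∈ U, G.hom x = s) ∧
      ∀ x ∈ P, G.hom x = s → x ∈ U := by
    intro s
    let j := B.fromSpecResidueField s
    haveI : IsClosedImmersion j := isClosed_singleton_iff_isClosedImmersion.1 (isClosed_discrete _)
    let Gs := Red.bc j G
    haveI : GrpObj Gs := Red.grpObj_bc j G
    haveI : LocallyOfFiniteType Gs.hom := inferInstanceAs (LocallyOfFiniteType (pullback.snd G.hom j))
    haveI : QuasiCompact Gs.hom := inferInstanceAs (QuasiCompact (pullback.snd G.hom j))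
    let i : Gs.left ⟶ G.left := pullback.fst G.hom j
    haveI : IsClosedImmersion i := inferInstanceAs (IsClosedImmersion (pullback.fst G.hom j))
    have hr : Set.range i = G.hom ⁻¹' {s} := by
      rw [Scheme.Pullback.range_fst, Scheme.range_fromSpecResidueField]
    obtain ⟨U, hU, hPU⟩ := exists_affine_field (B.residueField s) Gs (i ⁻¹' P)
      (hP.preimage i.injective.injOn)
    have hopen : IsOpen (i '' (U : Set Gs.left)) := by
      obtain ⟨O, hO, hOU⟩ := i.isEmbedding.isInducing.isOpen_iff.1 U.2
      rw [show (U : Set Gs.left) = i ⁻¹' O from hOU.symm, Set.image_preimage_eq_inter_range, hr]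
      exact hO.inter ((isOpen_discrete ({s} : Set B)).preimage G.hom.continuous)
    let V : G.left.Opens := ⟨_, hopen⟩
    have hVU : i ⁻¹ᵁ V = U := Opens.ext (Set.preimage_image_eq _ i.injective)
    haveI : IsAffine (i ⁻¹ᵁ V).toScheme := by rw [hVU]; exact hU
    refine ⟨V, ?_, ?_, fun x hx hxs => ?_⟩
    · haveI : IsClosedImmersion (i ∣_ V) := IsZariskiLocalAtTarget.restrict ‹IsClosedImmersion i› V
      exact Groth.Agent.S9203.result V.toScheme (κ := PUnit.{1}) (fun _ => (i ⁻¹ᵁ V).toScheme) (fun _ => i ∣_ V)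
        fun x => by
          obtain ⟨y, hy, hyx⟩ := x.2
          refine ⟨PUnit.unit, ⟨y, by rw [hVU]; exact hy⟩, V.ι.injective ?_⟩
          refine Eq.trans ?_ hyx
          rw [← Scheme.Hom.comp_apply, morphismRestrict_ι]
          rfl
    · rintro _ ⟨y, -, rfl⟩
      exact hr.le ⟨y, rfl⟩
    · obtain ⟨y, rfl⟩ := hr.ge (show x ∈ G.hom ⁻¹' {s} from hxs)
      exact ⟨y, hPU hx, rfl⟩
  choose U hU hUs hPU using hloc
  refine ⟨⨆ s : B, U s, ?_, fun x hx => Opens.mem_iSup.2 ⟨G.hom x, hPU _ x hx rfl⟩⟩
  have h : ∀ t : Finset B, IsAffineOpen (t.sup U) := by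
    intro t
    induction t using Finset.induction_on with
    | empty => exact isAffineOpen_bot _
    | insert s t hst ih =>
      rw [Finset.sup_insert]
      refine (hU s).sup_of_disjoint ih (disjoint_iff.2 (le_bot_iff.1 fun x hx => ?_))
      obtain ⟨hxs, hxt⟩ := hx
      rw [Finset.sup_eq_iSup] at hxt
      obtain ⟨s', hs'⟩ := Opens.mem_iSup.1 hxt
      obtain ⟨hs't, hxs'⟩ := Opens.mem_iSup.1 hs'
      exact hst ((hUs s x hxs).symm.trans (hUs s' x hxs') ▸ hs't)
  haveI := Fintype.ofFinite B
  have := h Finset.univ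
  rwa [Finset.sup_univ_eq_iSup] at this

end Groth.Agent.GrpQP

end
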